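import Groth.Agent.Fano.K461.Top
import Groth.Agent.Fano.K305.DimA
import Groth.Agent.Fano.K424.X0
import Groth.Agent.Fano.K244.Bnd
import Groth.Agent.Fano.K105.CurBd
import Groth.Agent.Fano.K714.ConicIrr2
import Groth.Agent.Fano.K714.TypeConst

/-!
# Dimension of the space of curves of degree `≤ e` on a cubic threefold; boundary of type 1 (job Fano CC5, S16526)

`pa_zero`, `comp_dimGE`, `comp_ne`, `dimLE_boundary`, `pa_succ`, `exists_type_one` in the form of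
`K470.PlanCurve`, NODE DZ, with `PA`, `PX` written out as `K984.BdDim.PA`, `K984.BdDim.PX`.

Inputs taken as explicit hypotheses (statements of the plan):
* `Pit k`: `PlanTool.pit`; `K244.Bnd.PitOne k`: `PlanTool.pit_one`; `Fib k`: `PlanTool.dimLE_of_fibres'`;
* `ConeLE T`: `PlanLine.dimLE_cone`; `FinEck T`: `PlanLine.finite_eckardt`.
-/

set_option autoImplicit false

universe u

namespace K984.BdDim

open LefPen Groth.Agent.Lefpen.H703.ZOpen Module K714.Irr K714.Frames K470.Cur K656.Trilin K714.Surf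
open K461.Top K305.DimA

/-- statement of `PlanTool.pit` -/
def Pit (k : Type u) [Field k] : Prop :=
  ∀ {V : Type u} [AddCommGroup V] [Module k V] [FiniteDimensional k V] {r : ℕ} {h : Fin r → V → k},
    (∀ i, IsPolyFun k (h i)) → ∀ {C : Set V}, IsComp k {v | ∀ i, h i v = 0} C → ∀ {d : ℕ}, d + r ≤ finrank k V →
    DimGE k C d

/-- statement of `PlanTool.dimLE_of_fibres'` -/
def Fib (k : Type u) [Field k] : Prop :=
  ∀ {V W : Type u} [AddCommGroup V] [Module k V] [AddCommGroup W] [Module k W] [FiniteDimensional k V]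
    [FiniteDimensional k W] {X O : Set (V × W)}, IsZOpen k Xᶜ → IsZOpen k O → ∀ {m r : ℕ},
    DimLE k (Prod.snd '' (X ∩ O)) m → (∀ w, DimLE k {v | (v, w) ∈ X ∩ O} r) → DimLE k (X ∩ O) (m + r)

variable {k : Type u} [Field k]
variable {T : (Fin 5 → k) →ₗ[k] (Fin 5 → k) →ₗ[k] (Fin 5 → k) →ₗ[k] k}

variable (T) in
/-- statement of `PlanLine.dimLE_cone` -/
def ConeLE : Prop := ∀ {x : Fin 5 → k}, x ≠ 0 → DimLE k (Cone T x) 3

variable (T) in
/-- statement of `PlanLine.finite_eckardt` -/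
def FinEck : Prop :=
  ∃ E : Finset (Fin 5 → k), (∀ x ∈ E, x ≠ 0 ∧ T x x x = 0) ∧
    ∀ x : Fin 5 → k, x ≠ 0 → T x x x = 0 → (∀ y ∈ E, ∀ c : k, x ≠ c • y) → DimLE k (Cone T x) 2

variable (T) in
/-- dimension -/
def PA (e : ℕ) : Prop := DimLE k (Z T e) (2 * e + 4)

variable (T) in
/-- curves through a point -/
def PX (e : ℕ) : Prop :=
  ∀ y : Fin 5 → k, y ≠ 0 → DimLE k {b : A k e | b ∈ Z T e ∧ b 0 ∈ Submodule.span k {y}} (2 * e + 2)

/-! ### Preliminaries -/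

theorem pm_coord {e : ℕ} (i : Fin (e + 1)) : IsPolyMap k (fun a : A k e => a i) :=
  isPolyMap_linear (LinearMap.proj (R := k) (φ := fun _ : Fin (e + 1) => Fin 5 → k) i)

theorem isZOpen_not_mem {V : Type u} [AddCommGroup V] [Module k V] (L : Submodule k V) :
    IsZOpen k {v : V | v ∉ L} := by
  intro v hv
  obtain ⟨f, hfv, hf⟩ := Submodule.exists_dual_map_eq_bot_of_notMem (p := L) hv inferInstance
  refine ⟨f, isPolyFun_linear' f, hfv, fun w hw hwL => hw ?_⟩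
  have : f w ∈ L.map f := ⟨w, hwL, rfl⟩
  rw [hf] at this
  exact (Submodule.mem_bot k).1 this

theorem isZOpen_compl_Z (e : ℕ) : IsZOpen k (Z T e)ᶜ := by
  have h1 : ∀ s : k, IsPolyMap k (fun a : A k e => ev a s) := fun s => by
    have h2 : (fun a : A k e => ev a s) = ⇑(K244.Bnd.evL k e s) := by
      funext a
      exact (K244.Bnd.evL_apply s a).symm
    rw [h2]
    exact isPolyMap_linear _
  have h2 : IsZOpen k {a : A k e | ∃ s : k, T (ev a s) (ev a s) (ev a s) ≠ 0} :=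
    isZOpen_compl_zeros (f := fun (s : k) (a : A k e) => T (ev a s) (ev a s) (ev a s))
      fun s => K714.TypeConst.pf_tri T (h1 s) (h1 s) (h1 s)
  refine (isZOpen_congr fun a => ?_).1 h2
  simp only [Z, Set.mem_compl_iff, Set.mem_ofPred_eq, not_forall]

/-- the coefficients of `T (a(s)) (a(s)) (a(s))` -/
def cf (T : (Fin 5 → k) →ₗ[k] (Fin 5 → k) →ₗ[k] (Fin 5 → k) →ₗ[k] k) {e : ℕ} (n : Fin (3 * e + 1)) (a : A k e) : k :=
  ∑ i : Fin (e + 1), ∑ j : Fin (e + 1), ∑ l : Fin (e + 1),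
    if (i : ℕ) + j + l = n then T (a i) (a j) (a l) else 0

theorem pf_cf {e : ℕ} (n : Fin (3 * e + 1)) : IsPolyFun k (cf T n : A k e → k) := by
  refine pf_sum _ fun i _ => pf_sum _ fun j _ => pf_sum _ fun l _ => ?_
  by_cases h : (i : ℕ) + j + l = n
  · simp only [h, if_true]
    exact K714.TypeConst.pf_tri T (pm_coord i) (pm_coord j) (pm_coord l)
  · simp only [h, if_false]
    exact isPolyFun_zero

theorem sum_cf {e : ℕ} (a : A k e) (s : k) :
    ∑ n : Fin (3 * e + 1), cf T n a * s ^ (n : ℕ) = T (ev a s) (ev a s) (ev a s) := by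
  have h1 : T (ev a s) (ev a s) (ev a s) = ∑ i : Fin (e + 1), ∑ j : Fin (e + 1), ∑ l : Fin (e + 1),
      T (a i) (a j) (a l) * s ^ ((i : ℕ) + j + l) := by
    have h2 : ∀ u v : Fin 5 → k, T u v (ev a s) = ∑ l : Fin (e + 1), T u v (a l) * s ^ (l : ℕ) := by
      intro u v
      simp only [ev, map_sum, map_smul, smul_eq_mul]
      exact Finset.sum_congr rfl fun i _ => mul_comm _ _
    have h3 : ∀ u v : Fin 5 → k, T u (ev a s) v = ∑ l : Fin (e + 1), T u (a l) v * s ^ (l : ℕ) := by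
      intro u v
      simp only [ev, map_sum, map_smul, smul_eq_mul, LinearMap.sum_apply, LinearMap.smul_apply]
      exact Finset.sum_congr rfl fun i _ => mul_comm _ _
    have h4 : ∀ u v : Fin 5 → k, T (ev a s) u v = ∑ l : Fin (e + 1), T (a l) u v * s ^ (l : ℕ) := by
      intro u v
      simp only [ev, map_sum, map_smul, smul_eq_mul, LinearMap.sum_apply, LinearMap.smul_apply]
      exact Finset.sum_congr rfl fun i _ => mul_comm _ _
    rw [h4]
    refine Finset.sum_congr rfl fun i _ => ?_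
    rw [h3, Finset.sum_mul]
    refine Finset.sum_congr rfl fun j _ => ?_
    rw [h2, Finset.sum_mul, Finset.sum_mul]
    refine Finset.sum_congr rfl fun l _ => ?_
    rw [pow_add, pow_add]
    ring
  rw [h1]
  simp only [cf, Finset.sum_mul]
  rw [Finset.sum_comm]
  refine Finset.sum_congr rfl fun i _ => ?_
  rw [Finset.sum_comm]
  refine Finset.sum_congr rfl fun j _ => ?_
  rw [Finset.sum_comm]
  refine Finset.sum_congr rfl fun l _ => ?_
  have hlt : (i : ℕ) + j + l < 3 * e + 1 := by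
    have := i.2
    have := j.2
    have := l.2
    omega
  rw [Finset.sum_eq_single (⟨(i : ℕ) + j + l, hlt⟩ : Fin (3 * e + 1))]
  · simp
  · intro n _ hn
    rw [if_neg, zero_mul]
    intro h
    exact hn (Fin.ext h.symm)
  · intro h
    exact absurd (Finset.mem_univ _) h

theorem mem_Z_iff [Infinite k] {e : ℕ} (a : A k e) : a ∈ Z T e ↔ ∀ n : Fin (3 * e + 1), cf T n a = 0 := by
  constructor
  · intro h n
    exact K714.ConicIrr.coeffs_zero (fun n : Fin (3 * e + 1) => cf T n a) (fun s => by rw [sum_cf]; exact h s) n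
  · intro h s
    rw [← sum_cf]
    exact Finset.sum_eq_zero fun n _ => by rw [h n, zero_mul]

theorem ev_zero' (a : A k 0) (s : k) : ev a s = a 0 := by
  simp [ev]

theorem pa_zero [IsAlgClosed k] [CharZero k] (hT : IsSym3 T) (hsm : SmoothOn T ⊤) : PA T 0 := by
  have h1 : Z T 0 ⊆ (fun v : Fin 5 → k => (fun _ => v : A k 0)) '' X0 T := by
    intro a ha
    refine ⟨a 0, ?_, ?_⟩
    · have := ha 0
      rw [ev_zero'] at this
      exact this
    · funext i
      rw [Fin.fin_one_eq_zero i]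
  refine DimLE.mono h1 (DimLE.image (K424.X0.dimLE_X0 hT hsm) ?_)
  exact K714.ConicIrr.pm_pi fun i => isPolyMap_id

theorem comp_dimGE [IsAlgClosed k] [CharZero k] (hpit : Pit k) (_hT : IsSym3 T) {e : ℕ} {W : Set (A k e)} (hW : IsComp k (Z T e) W) :
    DimGE k W (2 * e + 4) := by
  have h1 : Z T e = {a : A k e | ∀ n : Fin (3 * e + 1), cf T n a = 0} := Set.ext fun a => mem_Z_iff a
  rw [h1] at hW
  refine hpit (fun n => pf_cf n) hW ?_
  rw [Module.finrank_pi_fintype]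
  simp only [Module.finrank_fintype_fun_eq_card, Fintype.card_fin, Finset.sum_const, Finset.card_univ, smul_eq_mul]
  omega

theorem ev_hd {e : ℕ} (a : A k e) (c : k) : hd a 0 c = ev a c := by
  simp [hd, ev]

theorem dimLE_zero {V : Type u} [AddCommGroup V] [Module k V] [FiniteDimensional k V] [Infinite k] {S : Set V}
    (h : ∀ v ∈ S, v = 0) : DimLE k S 0 := by
  have h1 := dimLE_submodule (k := k) (⊥ : Submodule k V)
  rw [finrank_bot] at h1
  exact DimLE.mono (fun v hv => by rw [h v hv]; exact Submodule.zero_mem _) h1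

theorem comp_ne [IsAlgClosed k] [CharZero k] (hpit : Pit k) (hT : IsSym3 T) {e : ℕ} {W : Set (A k e)}
    (hW : IsComp k (Z T e) W) : ∃ a ∈ W, a 0 ≠ 0 := by
  by_contra hcon
  push Not at hcon
  have h1 : ∀ a ∈ W, a = 0 := by
    intro a ha
    have h2 : ∀ c : k, ev a c = 0 := by
      intro c
      have h3 := hcon _ (K105.CurBd.comp_translate hW c ha)
      have h4 : hd a ((0 : Fin (e + 1)) : ℕ) c = ev a c := ev_hd a c
      rw [← h4]
      exact h3
    funext i j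
    refine K714.ConicIrr.coeffs_zero (fun i : Fin (e + 1) => a i j) (fun s => ?_) i
    have h5 := congrFun (h2 s) j
    simp only [ev, Finset.sum_apply, Pi.smul_apply, smul_eq_mul, Pi.zero_apply] at h5
    rw [← h5]
    exact Finset.sum_congr rfl fun i _ => mul_comm _ _
  have h6 := DimLE.anti (Nat.zero_le (2 * e + 3)) (dimLE_zero (k := k) h1)
  exact h6 (comp_dimGE hpit hT hW)

/-! ### The set of possible boundary points -/

variable (T) in
/-- all possible boundary points -/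
def Q (e : ℕ) : Set ((Fin 5 → k) × A k e) := {q | q.2 ∈ Z T e ∧ q.1 ∈ Cone T (q.2 0)}

theorem pm_q {e : ℕ} (i : Fin (e + 1)) : IsPolyMap k (fun q : (Fin 5 → k) × A k e => q.2 i) :=
  pm_comp (pm_coord i) isPolyMap_snd

theorem isZOpen_compl_Q (e : ℕ) : IsZOpen k (Q T e)ᶜ := by
  have h1 : IsZOpen k ((fun q : (Fin 5 → k) × A k e => q.2) ⁻¹' (Z T e)ᶜ) :=
    zo_preimage (isZOpen_compl_Z e) isPolyMap_snd
  have c1 : IsPolyMap k (fun q : (Fin 5 → k) × A k e => q.1) := isPolyMap_fst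
  have c2 : IsPolyMap k (fun q : (Fin 5 → k) × A k e => q.2 0) := pm_q 0
  have h2 := zo_union (zo_union (isZOpen_basic (K714.TypeConst.pf_tri T c1 c1 c1))
    (isZOpen_basic (K714.TypeConst.pf_tri T c1 c1 c2))) (isZOpen_basic (K714.TypeConst.pf_tri T c1 c2 c2))
  refine (isZOpen_congr fun q => ?_).1 (zo_union h1 h2)
  simp only [Q, Cone, Set.mem_union, Set.mem_preimage, Set.mem_compl_iff, Set.mem_ofPred_eq]
  tauto

theorem isZOpen_ne0 {e : ℕ} : IsZOpen k {q : (Fin 5 → k) × A k e | q.2 0 ≠ 0} := by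
  have h1 := zo_preimage (isZOpen_not_mem (k := k) (⊥ : Submodule k (Fin 5 → k))) (pm_q (k := k) (e := e) 0)
  refine (isZOpen_congr fun q => ?_).1 h1
  simp

theorem isZOpen_notMem {e : ℕ} (L : Submodule k (Fin 5 → k)) :
    IsZOpen k {q : (Fin 5 → k) × A k e | q.2 0 ∉ L} :=
  zo_preimage (isZOpen_not_mem (k := k) L) (pm_q (k := k) (e := e) 0)

theorem isZOpen_off {e : ℕ} (E : Finset (Fin 5 → k)) :
    IsZOpen k {q : (Fin 5 → k) × A k e | ∀ y ∈ E, q.2 0 ∉ Submodule.span k {y}} := by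
  refine (isZOpen_congr fun q => ?_).1 (isZOpen_biInter_finset E fun y _ => isZOpen_notMem (e := e) (Submodule.span k {y}))
  simp

/-- pairs with `q.2 0 = 0` -/
theorem dimLE_Q1 [IsAlgClosed k] [CharZero k] (hfib : Fib k) (hT : IsSym3 T) (hsm : SmoothOn T ⊤) {e : ℕ} (hX : PX T e) :
    DimLE k (Q T e ∩ {q | q.2 0 = 0}) (2 * e + 6) := by
  have hcl : IsZOpen k (Q T e ∩ {q : (Fin 5 → k) × A k e | q.2 0 = 0})ᶜ := by
    rw [Set.compl_inter]
    exact zo_union (isZOpen_compl_Q e) isZOpen_ne0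
  have hy : (Pi.single 0 1 : Fin 5 → k) ≠ 0 := by
    rw [Ne, Pi.single_eq_zero_iff]
    exact one_ne_zero
  have h1 : DimLE k (Prod.snd '' (Q T e ∩ {q : (Fin 5 → k) × A k e | q.2 0 = 0} ∩ Set.univ)) (2 * e + 2) := by
    refine DimLE.mono ?_ (hX _ hy)
    rintro _ ⟨q, ⟨⟨hq, hq0⟩, -⟩, rfl⟩
    refine ⟨hq.1, ?_⟩
    rw [Set.mem_ofPred_eq] at hq0
    rw [hq0]
    exact Submodule.zero_mem _
  have h2 := hfib hcl isZOpen_univ h1 (r := 4) (fun w => by
    refine DimLE.mono ?_ (K424.X0.dimLE_X0 hT hsm)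
    intro v hv
    exact hv.1.1.2.1)
  rw [Set.inter_univ] at h2
  exact h2

/-- pairs with `q.2 0` on the line `y` -/
theorem dimLE_Q2 [IsAlgClosed k] [CharZero k] (hfib : Fib k) (hcone : ConeLE T) {e : ℕ} (hX : PX T e)
    {y : Fin 5 → k} (hy : y ≠ 0) :
    DimLE k (Q T e ∩ {q | q.2 0 ≠ 0 ∧ q.2 0 ∈ Submodule.span k {y}}) (2 * e + 5) := by
  have hcl : IsZOpen k (Q T e ∩ {q : (Fin 5 → k) × A k e | q.2 0 ∈ Submodule.span k {y}})ᶜ := by
    rw [Set.compl_inter]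
    exact zo_union (isZOpen_compl_Q e) (isZOpen_notMem (Submodule.span k {y}))
  have h1 : DimLE k (Prod.snd '' (Q T e ∩ {q : (Fin 5 → k) × A k e | q.2 0 ∈ Submodule.span k {y}} ∩
      {q | q.2 0 ≠ 0})) (2 * e + 2) := by
    refine DimLE.mono ?_ (hX _ hy)
    rintro _ ⟨q, ⟨⟨hq, hq0⟩, -⟩, rfl⟩
    exact ⟨hq.1, hq0⟩
  have h2 := hfib hcl isZOpen_ne0 h1 (r := 3) (fun w => by
    by_cases hw : w 0 = 0
    · refine DimLE.mono ?_ (DimLE.anti (Nat.zero_le 3) (dimLE_zero (k := k) (S := (∅ : Set (Fin 5 → k))) (by simp)))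
      intro v hv
      exact absurd hw hv.2
    · refine DimLE.mono ?_ (hcone hw)
      intro v hv
      exact hv.1.1.2)
  refine DimLE.mono ?_ h2
  rintro q ⟨hq, hq0, hqy⟩
  exact ⟨⟨hq, hqy⟩, hq0⟩

/-- pairs with `q.2 0` outside finitely many lines -/
theorem dimLE_Q3 [IsAlgClosed k] [CharZero k] (hfib : Fib k) {e : ℕ} {m : ℕ}
    {E : Finset (Fin 5 → k)}
    (hE : ∀ x : Fin 5 → k, x ≠ 0 → T x x x = 0 → (∀ y ∈ E, ∀ c : k, x ≠ c • y) → DimLE k (Cone T x) 2)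
    {X O : Set ((Fin 5 → k) × A k e)} (hX : IsZOpen k Xᶜ) (hO : IsZOpen k O) (hXQ : X ⊆ Q T e)
    (hO' : ∀ q ∈ O, q.2 0 ≠ 0 ∧ ∀ y ∈ E, q.2 0 ∉ Submodule.span k {y})
    (hm : DimLE k (Prod.snd '' (X ∩ O)) m) :
    DimLE k (X ∩ O) (m + 2) := by
  refine hfib hX hO hm (fun w => ?_)
  by_cases hw : {v | (v, w) ∈ X ∩ O}.Nonempty
  · obtain ⟨v, hv⟩ := hw
    obtain ⟨h1, h2⟩ := hO' _ hv.2
    refine DimLE.mono ?_ (hE (w 0) h1 ?_ fun y hy c hc => h2 y hy ?_)
    · intro v hv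
      exact (hXQ hv.1).2
    · have h3 := (hXQ hv.1).1 0
      have h4 : ev w (0 : k) = w 0 := by
        simp only [ev]
        rw [Finset.sum_eq_single (0 : Fin (e + 1))]
        · simp
        · intro i _ hi
          rw [zero_pow (fun h => hi (Fin.ext h)), zero_smul]
        · intro h
          exact absurd (Finset.mem_univ _) h
      rw [← h4]
      exact h3
    · rw [Submodule.mem_span_singleton]
      exact ⟨c, hc.symm⟩
  · rw [Set.not_nonempty_iff_eq_empty] at hw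
    rw [hw]
    exact DimLE.anti (Nat.zero_le 2) (dimLE_zero (k := k) (by simp))

/-- all possible boundary points -/
theorem dimLE_boundary [IsAlgClosed k] [CharZero k] (hfib : Fib k) (hcone : ConeLE T) (heck : FinEck T) (hT : IsSym3 T) (hsm : SmoothOn T ⊤) {e : ℕ} (hA : PA T e)
    (hX : PX T e) (_hA' : ∀ e', e' + 1 = e → PA T e') :
    DimLE k {q : (Fin 5 → k) × A k e | q.2 ∈ Z T e ∧ q.1 ∈ Cone T (q.2 0)} (2 * e + 6) := by
  obtain ⟨E, hE0, hE⟩ := heck
  have h1 := dimLE_Q1 hfib hT hsm hX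
  have h2 : DimLE k (⋃ y ∈ (E : Set (Fin 5 → k)),
      (Q T e ∩ {q : (Fin 5 → k) × A k e | q.2 0 ≠ 0 ∧ q.2 0 ∈ Submodule.span k {y}})) (2 * e + 6) :=
    dimLE_biUnion E.finite_toSet fun y hy => DimLE.anti (by omega) (dimLE_Q2 hfib hcone hX (hE0 y hy).1)
  have h3 : DimLE k (Q T e ∩ ({q | q.2 0 ≠ 0} ∩ {q | ∀ y ∈ E, q.2 0 ∉ Submodule.span k {y}})) (2 * e + 4 + 2) := by
    refine dimLE_Q3 hfib hE (isZOpen_compl_Q e) (zo_inter isZOpen_ne0 (isZOpen_off E)) (fun q hq => hq)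
      (fun q hq => hq) (DimLE.mono ?_ hA)
    rintro _ ⟨q, ⟨hq, -⟩, rfl⟩
    exact hq.1
  refine DimLE.mono ?_ (dimLE_union h1 (dimLE_union h2 h3))
  intro q hq
  by_cases h0 : q.2 0 = 0
  · exact Or.inl ⟨hq, h0⟩
  · by_cases hy : ∀ y ∈ E, q.2 0 ∉ Submodule.span k {y}
    · exact Or.inr (Or.inr ⟨hq, h0, hy⟩)
    · push Not at hy
      obtain ⟨y, hy, hqy⟩ := hy
      refine Or.inr (Or.inl ?_)
      simp only [Set.mem_iUnion]
      exact ⟨y, hy, hq, h0, hqy⟩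

theorem pa_succ [IsAlgClosed k] [CharZero k] (hpit1 : K244.Bnd.PitOne k) (hfib : Fib k) (hcone : ConeLE T)
    (heck : FinEck T) (hT : IsSym3 T) (hsm : SmoothOn T ⊤) {e : ℕ} (hA : PA T e)
    (hX : PX T e) (hA' : ∀ e', e' + 1 = e → PA T e') : PA T (e + 1) := by
  have h1 : Z T (e + 1) ⊆ ⋃ W ∈ {C | IsComp k (Z T (e + 1)) C}, W := by
    intro a ha
    obtain ⟨C, hC, haC⟩ := mem_comp (isZOpen_compl_Z (e + 1)) ha
    simp only [Set.mem_iUnion]
    exact ⟨C, hC, haC⟩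
  refine DimLE.mono h1 (dimLE_biUnion (finite_comps (isZOpen_compl_Z (e + 1))) fun W hW hd => ?_)
  obtain ⟨a, ha⟩ := hW.2.1.1
  obtain ⟨G, hG, -, -, -, hGd⟩ := K244.Bnd.exists_bd hpit1 hW.2.1 hd (K244.Bnd.zero_mem_bd hW ha)
  exact dimLE_boundary hfib hcone heck hT hsm hA hX hA' (DimGE.mono (fun q hq => K244.Bnd.bd_eqs hT hW.1 (hG hq)) hGd)

theorem isZOpen_indep {e : ℕ} : IsZOpen k {q : (Fin 5 → k) × A k e | LinearIndependent k ![q.1, q.2 0]} :=
  zo_preimage (φ := fun q : (Fin 5 → k) × A k e => (q.1, q.2 0)) K714.Frames.isZOpen_indep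
    (pm_prodMk isPolyMap_fst (pm_q 0))

/-- boundary of type 1 -/
theorem exists_type_one [IsAlgClosed k] [CharZero k] (hpit : Pit k) (hpit1 : K244.Bnd.PitOne k) (hfib : Fib k)
    (hcone : ConeLE T) (heck : FinEck T) (hT : IsSym3 T) (_hsm : SmoothOn T ⊤) {e : ℕ} (hA : PA T e)
    (hX : PX T e) {W : Set (A k (e + 1))} (hW : IsComp k (Z T (e + 1)) W) {p : Fin 5 → k} {b : A k e}
    (h : (p, b) ∈ bd W) (hb : b 0 ≠ 0) :
    ∃ (G : Set ((Fin 5 → k) × A k e)) (W' : Set (A k e)), G ⊆ bd W ∧ Irr k G ∧ IsComp k (Z T e) W' ∧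
      (∀ q ∈ G, q.2 ∈ W' ∧ LinearIndependent k ![q.1, q.2 0]) ∧ W' ⊆ Cl k (Prod.snd '' G) := by
  obtain ⟨E, hE0, hE⟩ := heck
  obtain ⟨G0, hG0, hG0i, hG0c, hmem, hG0d⟩ := K244.Bnd.exists_bd hpit1 hW.2.1 (comp_dimGE hpit hT hW) h
  have hG0Q : G0 ⊆ Q T e := fun q hq => K244.Bnd.bd_eqs hT hW.1 (hG0 hq)
  -- avoid zero
  have hn1 : (G0 ∩ {q | q.2 0 ≠ 0}).Nonempty := ⟨_, hmem, hb⟩
  have hi1 := hG0i.inter_open isZOpen_ne0 hn1
  have hd1 := DimGE.inter_open hG0i isZOpen_ne0 hn1 hG0d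
  -- avoid Eckardt points
  have hn2 : (G0 ∩ {q | q.2 0 ≠ 0} ∩ {q | ∀ y ∈ E, q.2 0 ∉ Submodule.span k {y}}).Nonempty := by
    by_contra hcon
    have h2 : DimLE k (⋃ y ∈ (E : Set (Fin 5 → k)),
        (Q T e ∩ {q : (Fin 5 → k) × A k e | q.2 0 ≠ 0 ∧ q.2 0 ∈ Submodule.span k {y}})) (2 * e + 5) :=
      dimLE_biUnion E.finite_toSet fun y hy => dimLE_Q2 hfib hcone hX (hE0 y hy).1
    refine DimLE.mono ?_ h2 hd1
    intro q hq
    by_cases hy : ∀ y ∈ E, q.2 0 ∉ Submodule.span k {y}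
    · exact absurd ⟨q, hq, hy⟩ hcon
    · push Not at hy
      obtain ⟨y, hy, hqy⟩ := hy
      simp only [Set.mem_iUnion]
      exact ⟨y, hy, hG0Q hq.1, hq.2, hqy⟩
  have hi2 := hi1.inter_open (isZOpen_off E) hn2
  have hd2 := DimGE.inter_open hi1 (isZOpen_off E) hn2 hd1
  -- linear independence
  have hn3 : (G0 ∩ {q | q.2 0 ≠ 0} ∩ {q | ∀ y ∈ E, q.2 0 ∉ Submodule.span k {y}} ∩
      {q | LinearIndependent k ![q.1, q.2 0]}).Nonempty := by
    by_contra hcon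
    have hcl : IsZOpen k (Q T e ∩ {q : (Fin 5 → k) × A k e | LinearIndependent k ![q.1, q.2 0]}ᶜ)ᶜ := by
      rw [Set.compl_inter, compl_compl]
      exact zo_union (isZOpen_compl_Q e) isZOpen_indep
    have h2 : DimLE k (Q T e ∩ {q : (Fin 5 → k) × A k e | LinearIndependent k ![q.1, q.2 0]}ᶜ ∩
        {q | q.2 0 ≠ 0}) (2 * e + 4 + 1) := by
      refine hfib hcl isZOpen_ne0 (DimLE.mono ?_ hA) fun w => ?_
      · rintro _ ⟨q, ⟨⟨hq, -⟩, -⟩, rfl⟩
        exact hq.1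
      · by_cases hw : w 0 = 0
        · refine DimLE.mono ?_ (DimLE.anti (Nat.zero_le 1) (dimLE_zero (k := k) (S := (∅ : Set (Fin 5 → k))) (by simp)))
          intro v hv
          exact absurd hw hv.2
        · have h3 := dimLE_submodule (k := k) (Submodule.span k {w 0})
          rw [finrank_span_singleton hw] at h3
          refine DimLE.mono ?_ h3
          rintro v ⟨⟨-, hv⟩, -⟩
          rw [Set.mem_compl_iff, Set.mem_ofPred_eq, LinearIndependent.pair_symm_iff, LinearIndependent.pair_iff' hw] at hv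
          push Not at hv
          obtain ⟨c, hc⟩ := hv
          rw [SetLike.mem_coe, Submodule.mem_span_singleton]
          exact ⟨c, hc⟩
    refine DimLE.mono ?_ h2 (DimGE.anti (by omega) hd2)
    intro q hq
    refine ⟨⟨hG0Q hq.1.1, fun hli => hcon ⟨q, hq, hli⟩⟩, hq.1.2⟩
  have hi3 := hi2.inter_open isZOpen_indep hn3
  have hd3 := DimGE.inter_open hi2 isZOpen_indep hn3 hd2
  have hGeq : G0 ∩ {q | q.2 0 ≠ 0} ∩ {q | ∀ y ∈ E, q.2 0 ∉ Submodule.span k {y}} ∩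
      {q | LinearIndependent k ![q.1, q.2 0]} = G0 ∩ ({q | q.2 0 ≠ 0} ∩ {q | ∀ y ∈ E, q.2 0 ∉ Submodule.span k {y}} ∩
      {q | LinearIndependent k ![q.1, q.2 0]}) := by
    simp only [Set.inter_assoc]
  rw [hGeq] at hi3 hd3
  set G := G0 ∩ ({q | q.2 0 ≠ 0} ∩ {q | ∀ y ∈ E, q.2 0 ∉ Submodule.span k {y}} ∩
      {q | LinearIndependent k ![q.1, q.2 0]}) with hG
  have hB : DimGE k (Prod.snd '' G) (2 * e + 4) := by
    by_contra hcon
    have h2 := dimLE_Q3 (m := 2 * e + 3) hfib hE hG0c (zo_inter (zo_inter isZOpen_ne0 (isZOpen_off E)) isZOpen_indep) hG0Q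
      (fun q hq => ⟨hq.1.1, hq.1.2⟩) hcon
    exact h2 (DimGE.anti (by omega) hd3)
  have hBi : Irr k (Prod.snd '' G) := hi3.image isPolyMap_snd
  have hBZ : Prod.snd '' G ⊆ Z T e := by
    rintro _ ⟨q, hq, rfl⟩
    exact (hG0Q hq.1).1
  obtain ⟨W', hW', hBW⟩ := exists_comp (isZOpen_compl_Z e) hBi hBZ
  refine ⟨G, W', fun q hq => hG0 hq.1, hi3, hW', fun q hq => ⟨hBW ⟨q, hq, rfl⟩, hq.2.2⟩, ?_⟩
  have hcl : Cl k (Prod.snd '' G) ⊆ W' := cl_subset hBW (isComp_closed (isZOpen_compl_Z e) hW')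
  rw [eq_of_dim hW'.2.1 hcl (isZOpen_compl_cl _) (dimGE_cl.2 hB) (DimLE.mono hW'.1 hA)]

end K984.BdDim
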